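import Mathlib

/-!
# The generic point of a DVR is an open point, scheme-theoretically
-/

set_option autoImplicit false
universe u

namespace Groth.Agent.Lib.Helper6.DVRFib

open AlgebraicGeometry CategoryTheory Limits

/-- The fraction field of a DVR is the localization away from a uniformizer. -/
theorem isLocalization_away_of_isFractionRing {R K : Type*} [CommRing R] [IsDomain R]
    [IsDiscreteValuationRing R] [Field K] [Algebra R K] [IsFractionRing R K] (π : R)
    (hπ : Irreducible π) : IsLocalization.Away π K := by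
  have hinj : Function.Injective (algebraMap R K) := IsFractionRing.injective R K
  rw [IsLocalization.Away, isLocalization_iff]
  refine ⟨?_, ?_, ?_⟩
  · rintro ⟨_, n, rfl⟩
    apply IsUnit.mk0
    rw [map_pow]
    exact pow_ne_zero _ ((map_ne_zero_iff _ hinj).mpr hπ.ne_zero)
  · intro z
    obtain ⟨a, b, hb, rfl⟩ := IsFractionRing.div_surjective (A := R) z
    have hb0 : b ≠ 0 := nonZeroDivisors.ne_zero hb
    obtain ⟨n, u, hu⟩ := IsDiscreteValuationRing.eq_unit_mul_pow_irreducible hb0 hπ
    refine ⟨(a * ((u⁻¹ : Rˣ) : R), ⟨π ^ n, n, rfl⟩), ?_⟩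
    have hbK : algebraMap R K b ≠ 0 := (map_ne_zero_iff _ hinj).mpr hb0
    show algebraMap R K a / algebraMap R K b * algebraMap R K (π ^ n) =
      algebraMap R K (a * ((u⁻¹ : Rˣ) : R))
    rw [div_mul_eq_mul_div, div_eq_iff hbK, ← map_mul, ← map_mul, hu]
    congr 1
    have : ((u⁻¹ : Rˣ) : R) * (u : R) = 1 := by simp
    calc a * π ^ n = a * (((u⁻¹ : Rˣ) : R) * (u : R)) * π ^ n := by rw [this, mul_one]
      _ = _ := by ring
  · intro x y hxy
    exact ⟨1, by rw [hinj hxy]⟩

/-- The generic point of the spectrum of a DVR is scheme-theoretically open. -/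
theorem isOpenImmersion_fromSpecResidueField_generic {R : Type u} [CommRing R] [IsDomain R]
    [IsDiscreteValuationRing R] :
    IsOpenImmersion ((Spec (CommRingCat.of R)).fromSpecResidueField
      (⟨⊥, Ideal.isPrime_bot⟩ : PrimeSpectrum R)) := by
  obtain ⟨π, hπ⟩ := IsDiscreteValuationRing.exists_irreducible R
  have hloc : IsLocalization.Away π (⊥ : Ideal R).ResidueField :=
    isLocalization_away_of_isFractionRing π hπ
  have h1 : IsOpenImmersion (Spec.map (CommRingCat.ofHom
      (algebraMap R (⊥ : Ideal R).ResidueField))) := IsOpenImmersion.of_isLocalization π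
  have e := Scheme.Spec.map_residueFieldIso_inv_eq_fromSpecResidueField (CommRingCat.of R)
    (⟨⊥, Ideal.isPrime_bot⟩ : PrimeSpectrum R)
  have h2 : IsOpenImmersion (Spec.map (CommRingCat.ofHom (algebraMap (CommRingCat.of R)
      (⟨⊥, Ideal.isPrime_bot⟩ : PrimeSpectrum R).asIdeal.ResidueField))) := h1
  have h3 : IsOpenImmersion (Spec.map (Scheme.Spec.residueFieldIso (CommRingCat.of R)
      (⟨⊥, Ideal.isPrime_bot⟩ : PrimeSpectrum R)).inv ≫
      Spec.map (CommRingCat.ofHom (algebraMap (CommRingCat.of R)
        (⟨⊥, Ideal.isPrime_bot⟩ : PrimeSpectrum R).asIdeal.ResidueField))) := inferInstance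
  exact e ▸ h3

end Groth.Agent.Lib.Helper6.DVRFib
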