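import Mathlib

/-!
# Ring lemmas for schemes over a DVR with reduced special fibre
-/

set_option autoImplicit false
universe u v

namespace Groth.Agent.Lib.Helper6.DVRFib

open TensorProduct

/-- If the fibre ring `κ(m) ⊗ B` over a maximal ideal `m` is reduced, then `m B` is a radical
ideal (stated for squares). -/
theorem mem_map_of_pow_mem {R : Type u} {B : Type v} [CommRing R] [CommRing B] [Algebra R B]
    (m : Ideal R) [m.IsMaximal] [IsReduced (m.Fiber B)] (a : B) (n : ℕ)
    (ha : a ^ n ∈ m.map (algebraMap R B)) : a ∈ m.map (algebraMap R B) := by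
  let φ : B →ₐ[R] m.Fiber B := Algebra.TensorProduct.includeRight
  -- `φ` kills `m B`
  have hkill : ∀ b ∈ m.map (algebraMap R B), φ b = 0 := by
    intro b hb
    have hle : m.map (algebraMap R B) ≤ RingHom.ker φ.toRingHom := by
      rw [Ideal.map_le_iff_le_comap]
      intro r hr
      rw [Ideal.mem_comap, RingHom.mem_ker]
      show φ (algebraMap R B r) = 0
      rw [φ.commutes, Algebra.TensorProduct.algebraMap_apply,
        Ideal.algebraMap_residueField_eq_zero.mpr hr, zero_tmul]
    exact hle hb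
  -- the kernel of `φ` is `m B`
  have hker : ∀ b, φ b = 0 → b ∈ m.map (algebraMap R B) := by
    intro b hb
    let e₀ : (R ⧸ m) ≃ₗ[R] m.ResidueField :=
      LinearEquiv.ofBijective ((Algebra.linearMap (R ⧸ m) m.ResidueField).restrictScalars R)
        m.bijective_algebraMap_quotient_residueField
    let e : (R ⧸ m) ⊗[R] B ≃ₗ[R] m.ResidueField ⊗[R] B :=
      TensorProduct.congr e₀ (LinearEquiv.refl R B)
    have he : e (1 ⊗ₜ b) = φ b := by
      show (algebraMap (R ⧸ m) m.ResidueField 1) ⊗ₜ[R] b = 1 ⊗ₜ b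
      rw [map_one]
    have h1 : (1 : R ⧸ m) ⊗ₜ[R] b = 0 := e.injective (by rw [he, hb, map_zero])
    have h2 := congrArg (TensorProduct.quotTensorEquivQuotSMul B m) h1
    rw [TensorProduct.quotTensorEquivQuotSMul_mk_one_tmul, map_zero,
      Submodule.Quotient.mk_eq_zero, Ideal.smul_top_eq_map] at h2
    exact h2
  have h3 : φ a ^ n = 0 := by rw [← map_pow, hkill _ ha]
  exact hker a (IsNilpotent.eq_zero ⟨n, h3⟩)

/-- An idempotent of `B[1/ϖ]` comes from `B` when `ϖ` is a nonzerodivisor and `ϖ B` is radical. -/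
theorem idempotent_mem_range {B : Type u} [CommRing B] (ϖ : B) (hnz : ϖ ∈ nonZeroDivisors B)
    (hrad : ∀ a : B, a ^ 2 ∈ Ideal.span {ϖ} → a ∈ Ideal.span {ϖ})
    (e : Localization.Away ϖ) (he : IsIdempotentElem e) :
    ∃ a : B, IsIdempotentElem a ∧ algebraMap B (Localization.Away ϖ) a = e := by
  classical
  have hinj : Function.Injective (algebraMap B (Localization.Away ϖ)) :=
    IsLocalization.injective (Localization.Away ϖ) (M := Submonoid.powers ϖ)
      (Submonoid.powers_le.mpr hnz)
  -- minimal exponent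
  have hex : ∃ n : ℕ, ∃ a : B, algebraMap B (Localization.Away ϖ) a =
      e * algebraMap B (Localization.Away ϖ) ϖ ^ n := by
    obtain ⟨⟨a, ⟨_, n, rfl⟩⟩, h⟩ := IsLocalization.surj (Submonoid.powers ϖ) e
    exact ⟨n, a, by simpa using h.symm⟩
  have hmin : ∀ k, k < Nat.find hex → ¬ ∃ a : B, algebraMap B (Localization.Away ϖ) a =
      e * algebraMap B (Localization.Away ϖ) ϖ ^ k := fun k hk => Nat.find_min hex hk
  obtain ⟨a, ha⟩ := Nat.find_spec hex
  set n := Nat.find hex with hn
  rcases Nat.eq_zero_or_pos n with h0 | hpos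
  · rw [h0, pow_zero, mul_one] at ha
    refine ⟨a, ?_, ha⟩
    apply hinj
    rw [map_mul, ha]
    exact he
  · exfalso
    obtain ⟨k, hk⟩ : ∃ k, n = k + 1 := ⟨n - 1, by omega⟩
    -- a ^ 2 = ϖ ^ n * a
    have h2 : a ^ 2 = ϖ ^ n * a := by
      apply hinj
      rw [map_pow, map_mul, map_pow, ha]
      have : e * e = e := he
      calc (e * algebraMap B (Localization.Away ϖ) ϖ ^ n) ^ 2
          = (e * e) * (algebraMap B (Localization.Away ϖ) ϖ ^ n) ^ 2 := by ring
        _ = e * (algebraMap B (Localization.Away ϖ) ϖ ^ n) ^ 2 := by rw [this]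
        _ = _ := by ring
    have h3 : a ∈ Ideal.span {ϖ} := by
      apply hrad
      rw [h2, hk, pow_succ, mul_assoc]
      exact Ideal.mul_mem_left _ _ (Ideal.mul_mem_right _ _ (Ideal.mem_span_singleton_self ϖ))
    obtain ⟨a', ha'⟩ := Ideal.mem_span_singleton'.mp h3
    apply hmin k (by omega)
    refine ⟨a', ?_⟩
    -- cancel ϖ
    have hu : IsUnit (algebraMap B (Localization.Away ϖ) ϖ) :=
      IsLocalization.Away.algebraMap_isUnit ϖ
    apply hu.mul_right_cancel
    rw [← map_mul, ha', ha, hk, pow_succ, mul_assoc]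
  
end Groth.Agent.Lib.Helper6.DVRFib

namespace Groth.Agent.Lib.Helper6.DVRFib

open PrimeSpectrum

/-- If `ϖ` is a nonzerodivisor with `ϖ B` radical, a decomposition of `D(ϖ)` into two disjoint
opens has disjoint closures in `Spec B`. -/
theorem disjoint_closure_of_cover_basicOpen {B : Type u} [CommRing B] (ϖ : B)
    (hnz : ϖ ∈ nonZeroDivisors B)
    (hrad : ∀ a : B, a ^ 2 ∈ Ideal.span {ϖ} → a ∈ Ideal.span {ϖ})
    (u v : Set (PrimeSpectrum B)) (hu : IsOpen u) (hv : IsOpen v) (huv : Disjoint u v)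
    (hcov : u ∪ v = (basicOpen ϖ : Set (PrimeSpectrum B))) :
    Disjoint (closure u) (closure v) := by
  let c := comap (algebraMap B (Localization.Away ϖ))
  have hc : Continuous c := continuous_comap _
  have hrange : Set.range c = (basicOpen ϖ : Set (PrimeSpectrum B)) :=
    localization_away_comap_range (Localization.Away ϖ) ϖ
  have hclopen : IsClopen (c ⁻¹' u) := by
    refine ⟨?_, hu.preimage hc⟩
    have : c ⁻¹' u = (c ⁻¹' v)ᶜ := by
      ext q
      simp only [Set.mem_preimage, Set.mem_compl_iff]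
      constructor
      · intro h1 h2
        exact Set.disjoint_left.mp huv h1 h2
      · intro h2
        have : c q ∈ u ∪ v := by rw [hcov, ← hrange]; exact ⟨q, rfl⟩
        exact this.resolve_right h2
    rw [this]
    exact (hv.preimage hc).isClosed_compl
  obtain ⟨e, he, heq⟩ := PrimeSpectrum.isClopen_iff.mp hclopen
  obtain ⟨a, ha, hae⟩ := idempotent_mem_range ϖ hnz hrad e he
  have hsub_u : u ⊆ (basicOpen a : Set (PrimeSpectrum B)) := by
    intro q hq
    have hq' : q ∈ Set.range c := by rw [hrange, ← hcov]; exact Or.inl hq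
    obtain ⟨q', rfl⟩ := hq'
    have h1 : q' ∈ c ⁻¹' u := hq
    rw [heq] at h1
    have h2 : e ∉ q'.asIdeal := h1
    show a ∉ (c q').asIdeal
    intro h3
    apply h2
    rw [← hae]
    exact h3
  have hsub_v : v ⊆ (basicOpen (1 - a) : Set (PrimeSpectrum B)) := by
    intro q hq
    have hq' : q ∈ Set.range c := by rw [hrange, ← hcov]; exact Or.inr hq
    obtain ⟨q', rfl⟩ := hq'
    have h1 : q' ∉ c ⁻¹' u := fun h1 => Set.disjoint_left.mp huv h1 hq
    rw [heq] at h1
    have h2 : e ∈ q'.asIdeal := by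
      by_contra h2
      exact h1 h2
    show (1 - a) ∉ (c q').asIdeal
    intro h3
    have h4 : (1 - e) ∈ q'.asIdeal := by
      rw [← hae, ← map_one (algebraMap B (Localization.Away ϖ)), ← map_sub]
      exact h3
    have : (1 : Localization.Away ϖ) ∈ q'.asIdeal := by
      have := q'.asIdeal.add_mem h2 h4
      simpa using this
    exact q'.2.ne_top ((Ideal.eq_top_iff_one _).mpr this)
  have hcl_a : IsClosed (basicOpen a : Set (PrimeSpectrum B)) :=
    (PrimeSpectrum.isClopen_iff.mpr ⟨a, ha, rfl⟩).1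
  have hcl_a' : IsClosed (basicOpen (1 - a) : Set (PrimeSpectrum B)) :=
    (PrimeSpectrum.isClopen_iff.mpr ⟨1 - a, ha.one_sub, rfl⟩).1
  have h1 := closure_minimal hsub_u hcl_a
  have h2 := closure_minimal hsub_v hcl_a'
  refine Set.disjoint_left.mpr fun q hq1 hq2 => ?_
  have h3 : q ∈ (basicOpen (a * (1 - a)) : Set (PrimeSpectrum B)) := by
    rw [basicOpen_mul]
    exact ⟨h1 hq1, h2 hq2⟩
  have h4 : a * (1 - a) = 0 := by
    have : a * a = a := ha
    rw [mul_sub, mul_one, this, sub_self]
  rw [h4, basicOpen_zero] at h3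
  exact h3

end Groth.Agent.Lib.Helper6.DVRFib

namespace Groth.Agent.Lib.Helper6.DVRFib

open PrimeSpectrum

/-- Variant of `idempotent_mem_range` without the nonzerodivisor hypothesis: it suffices that the
kernel of `B → B[1/ϖ]` consists of nilpotents.  The lift is then idempotent up to nilpotents. -/
theorem idempotent_exists_lift {B : Type u} [CommRing B] (ϖ : B)
    (hT : ∀ t : B, algebraMap B (Localization.Away ϖ) t = 0 → IsNilpotent t)
    (hrad : ∀ (a : B) (n : ℕ), a ^ n ∈ Ideal.span {ϖ} → a ∈ Ideal.span {ϖ})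
    (e : Localization.Away ϖ) (he : IsIdempotentElem e) :
    ∃ a : B, IsNilpotent (a * (1 - a)) ∧ algebraMap B (Localization.Away ϖ) a = e := by
  classical
  have hnil : ∀ t : B, IsNilpotent t → t ∈ Ideal.span {ϖ} := by
    rintro t ⟨k, hk⟩
    exact hrad t k (by rw [hk]; exact Ideal.zero_mem _)
  have hex : ∃ n : ℕ, ∃ a : B, algebraMap B (Localization.Away ϖ) a =
      e * algebraMap B (Localization.Away ϖ) ϖ ^ n := by
    obtain ⟨⟨a, ⟨_, n, rfl⟩⟩, h⟩ := IsLocalization.surj (Submonoid.powers ϖ) e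
    exact ⟨n, a, by simpa using h.symm⟩
  have hmin : ∀ k, k < Nat.find hex → ¬ ∃ a : B, algebraMap B (Localization.Away ϖ) a =
      e * algebraMap B (Localization.Away ϖ) ϖ ^ k := fun k hk => Nat.find_min hex hk
  obtain ⟨a, ha⟩ := Nat.find_spec hex
  set n := Nat.find hex with hn
  have hee : e * e = e := he
  rcases Nat.eq_zero_or_pos n with h0 | hpos
  · rw [h0, pow_zero, mul_one] at ha
    refine ⟨a, ?_, ha⟩
    apply hT
    rw [map_mul, map_sub, map_one, ha, mul_sub, mul_one, hee, sub_self]
  · exfalso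
    obtain ⟨k, hk⟩ : ∃ k, n = k + 1 := ⟨n - 1, by omega⟩
    have h2 : IsNilpotent (a ^ 2 - ϖ ^ n * a) := by
      apply hT
      rw [map_sub, map_pow, map_mul, map_pow, ha]
      calc (e * algebraMap B (Localization.Away ϖ) ϖ ^ n) ^ 2 -
            algebraMap B (Localization.Away ϖ) ϖ ^ n *
              (e * algebraMap B (Localization.Away ϖ) ϖ ^ n)
          = (e * e - e) * (algebraMap B (Localization.Away ϖ) ϖ ^ n) ^ 2 := by ring
        _ = 0 := by rw [hee, sub_self, zero_mul]
    have h3 : a ∈ Ideal.span {ϖ} := by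
      apply hrad a 2
      have h4 : a ^ 2 = (a ^ 2 - ϖ ^ n * a) + ϖ ^ n * a := by ring
      rw [h4]
      refine Ideal.add_mem _ (hnil _ h2) ?_
      rw [hk, pow_succ, mul_assoc]
      exact Ideal.mul_mem_left _ _ (Ideal.mul_mem_right _ _ (Ideal.mem_span_singleton_self ϖ))
    obtain ⟨a', ha'⟩ := Ideal.mem_span_singleton'.mp h3
    apply hmin k (by omega)
    refine ⟨a', ?_⟩
    have hu : IsUnit (algebraMap B (Localization.Away ϖ) ϖ) :=
      IsLocalization.Away.algebraMap_isUnit ϖ
    apply hu.mul_right_cancel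
    rw [← map_mul, ha', ha, hk, pow_succ, mul_assoc]

/-- Variant of `disjoint_closure_of_cover_basicOpen` without the nonzerodivisor hypothesis. -/
theorem disjoint_closure_of_cover_basicOpen' {B : Type u} [CommRing B] (ϖ : B)
    (hT : ∀ t : B, algebraMap B (Localization.Away ϖ) t = 0 → IsNilpotent t)
    (hrad : ∀ (a : B) (n : ℕ), a ^ n ∈ Ideal.span {ϖ} → a ∈ Ideal.span {ϖ})
    (u v : Set (PrimeSpectrum B)) (hu : IsOpen u) (hv : IsOpen v) (huv : Disjoint u v)
    (hcov : u ∪ v = (basicOpen ϖ : Set (PrimeSpectrum B))) :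
    Disjoint (closure u) (closure v) := by
  let c := comap (algebraMap B (Localization.Away ϖ))
  have hc : Continuous c := continuous_comap _
  have hrange : Set.range c = (basicOpen ϖ : Set (PrimeSpectrum B)) :=
    localization_away_comap_range (Localization.Away ϖ) ϖ
  have hclopen : IsClopen (c ⁻¹' u) := by
    refine ⟨?_, hu.preimage hc⟩
    have : c ⁻¹' u = (c ⁻¹' v)ᶜ := by
      ext q
      simp only [Set.mem_preimage, Set.mem_compl_iff]
      constructor
      · intro h1 h2
        exact Set.disjoint_left.mp huv h1 h2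
      · intro h2
        have : c q ∈ u ∪ v := by rw [hcov, ← hrange]; exact ⟨q, rfl⟩
        exact this.resolve_right h2
    rw [this]
    exact (hv.preimage hc).isClosed_compl
  obtain ⟨e, he, heq⟩ := PrimeSpectrum.isClopen_iff.mp hclopen
  obtain ⟨a, ha, hae⟩ := idempotent_exists_lift ϖ hT hrad e he
  have hsub_u : u ⊆ (basicOpen a : Set (PrimeSpectrum B)) := by
    intro q hq
    have hq' : q ∈ Set.range c := by rw [hrange, ← hcov]; exact Or.inl hq
    obtain ⟨q', rfl⟩ := hq'
    have h1 : q' ∈ c ⁻¹' u := hq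
    rw [heq] at h1
    have h2 : e ∉ q'.asIdeal := h1
    show a ∉ (c q').asIdeal
    intro h3
    apply h2
    rw [← hae]
    exact h3
  have hsub_v : v ⊆ (basicOpen (1 - a) : Set (PrimeSpectrum B)) := by
    intro q hq
    have hq' : q ∈ Set.range c := by rw [hrange, ← hcov]; exact Or.inr hq
    obtain ⟨q', rfl⟩ := hq'
    have h1 : q' ∉ c ⁻¹' u := fun h1 => Set.disjoint_left.mp huv h1 hq
    rw [heq] at h1
    have h2 : e ∈ q'.asIdeal := by
      by_contra h2
      exact h1 h2
    show (1 - a) ∉ (c q').asIdeal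
    intro h3
    have h4 : (1 - e) ∈ q'.asIdeal := by
      rw [← hae, ← map_one (algebraMap B (Localization.Away ϖ)), ← map_sub]
      exact h3
    have : (1 : Localization.Away ϖ) ∈ q'.asIdeal := by
      have := q'.asIdeal.add_mem h2 h4
      simpa using this
    exact q'.2.ne_top ((Ideal.eq_top_iff_one _).mpr this)
  -- `D(a)` and `D(1 - a)` are complementary, hence closed
  have hcompl : ∀ q : PrimeSpectrum B, q ∈ (basicOpen a : Set (PrimeSpectrum B)) ↔
      q ∉ (basicOpen (1 - a) : Set (PrimeSpectrum B)) := by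
    intro q
    simp only [SetLike.mem_coe, mem_basicOpen, not_not]
    constructor
    · intro h1
      have h2 : a * (1 - a) ∈ q.asIdeal := by
        obtain ⟨k, hk⟩ := ha
        exact q.2.mem_of_pow_mem k (by rw [hk]; exact Ideal.zero_mem _)
      exact (q.2.mem_or_mem h2).resolve_left h1
    · intro h1 h2
      have : (1 : B) ∈ q.asIdeal := by
        have := q.asIdeal.add_mem h2 h1
        simpa using this
      exact q.2.ne_top ((Ideal.eq_top_iff_one _).mpr this)
  have hcl_a : IsClosed (basicOpen a : Set (PrimeSpectrum B)) := by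
    have : (basicOpen a : Set (PrimeSpectrum B)) = (basicOpen (1 - a) : Set (PrimeSpectrum B))ᶜ := by
      ext q; exact hcompl q
    rw [this]
    exact (basicOpen (1 - a)).2.isClosed_compl
  have hcl_a' : IsClosed (basicOpen (1 - a) : Set (PrimeSpectrum B)) := by
    have : (basicOpen (1 - a) : Set (PrimeSpectrum B)) = (basicOpen a : Set (PrimeSpectrum B))ᶜ := by
      ext q
      rw [Set.mem_compl_iff, hcompl q, not_not]
    rw [this]
    exact (basicOpen a).2.isClosed_compl
  have h1 := closure_minimal hsub_u hcl_a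
  have h2 := closure_minimal hsub_v hcl_a'
  refine Set.disjoint_left.mpr fun q hq1 hq2 => ?_
  exact (hcompl q).mp (h1 hq1) (h2 hq2)

end Groth.Agent.Lib.Helper6.DVRFib
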