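import Mathlib

/-!
# A topological lemma on connectedness of dense open subsets
-/

set_option autoImplicit false

namespace Groth.Agent.Lib.Helper6.DVRFib

/-- Let `G` be a dense open subset of a preconnected space such that any decomposition of `G`
into two disjoint opens has disjoint closures.  Then `G` is preconnected. -/
theorem isPreconnected_of_disjoint_closure {X : Type*} [TopologicalSpace X] [PreconnectedSpace X]
    (G : Set X) (hG : IsOpen G) (hd : Dense G)
    (H : ∀ u v : Set X, IsOpen u → IsOpen v → Disjoint u v → u ∪ v = G →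
      Disjoint (closure u) (closure v)) : IsPreconnected G := by
  rw [isPreconnected_iff_subset_of_disjoint]
  intro u v hu hv hcov hdis
  have hdisj : Disjoint (u ∩ G) (v ∩ G) := by
    rw [Set.disjoint_left]
    rintro x ⟨hxu, hxG⟩ ⟨hxv, -⟩
    have : x ∈ G ∩ (u ∩ v) := ⟨hxG, hxu, hxv⟩
    rw [hdis] at this
    exact this
  have hun : (u ∩ G) ∪ (v ∩ G) = G := by
    ext x
    constructor
    · rintro (⟨-, h⟩ | ⟨-, h⟩) <;> exact h
    · intro hx
      rcases hcov hx with h | h
      · exact Or.inl ⟨h, hx⟩
      · exact Or.inr ⟨h, hx⟩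
  have hcl := H _ _ (hu.inter hG) (hv.inter hG) hdisj hun
  have hunion : closure (u ∩ G) ∪ closure (v ∩ G) = Set.univ := by
    rw [← closure_union, hun, hd.closure_eq]
  have hcompl : closure (u ∩ G) = (closure (v ∩ G))ᶜ := by
    ext x
    constructor
    · intro h1 h2
      exact Set.disjoint_left.mp hcl h1 h2
    · intro h2
      have : x ∈ closure (u ∩ G) ∪ closure (v ∩ G) := by rw [hunion]; trivial
      exact this.resolve_right h2
  have hclopen : IsClopen (closure (u ∩ G)) :=
    ⟨isClosed_closure, by rw [hcompl]; exact isClosed_closure.isOpen_compl⟩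
  rcases isClopen_iff.mp hclopen with h | h
  · right
    intro x hx
    rcases hcov hx with h1 | h1
    · exfalso
      have : x ∈ closure (u ∩ G) := subset_closure ⟨h1, hx⟩
      rw [h] at this
      exact this
    · exact h1
  · left
    intro x hx
    rcases hcov hx with h1 | h1
    · exact h1
    · exfalso
      have h2 : x ∈ closure (v ∩ G) := subset_closure ⟨h1, hx⟩
      have h3 : x ∈ closure (u ∩ G) := by rw [h]; trivial
      exact Set.disjoint_left.mp hcl h3 h2

end Groth.Agent.Lib.Helper6.DVRFib
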