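import Mathlib
import Groth.Agent.Lib.Helper6.DVRFib.Ring
import Groth.Agent.Lib.Helper6.DVRFib.Top
import Groth.Agent.Lib.Helper6.RedFib.Sch

/-!
# Schemes flat over a DVR with reduced special fibre
-/

set_option autoImplicit false
universe u

namespace Groth.Agent.Lib.Helper6.DVRFib

open AlgebraicGeometry CategoryTheory Limits

/-- In a DVR with uniformizer `π`, a prime is zero iff it does not contain `π`. -/
theorem dvr_prime_eq_bot_iff {R : Type*} [CommRing R] [IsDomain R] [IsDiscreteValuationRing R]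
    (π : R) (hπ : Irreducible π) (p : Ideal R) [hp : p.IsPrime] : p = ⊥ ↔ π ∉ p := by
  constructor
  · rintro rfl h
    exact hπ.ne_zero ((Ideal.mem_bot).mp h)
  · intro h
    by_contra hne
    have hmax : p.IsMaximal := hp.isMaximal hne
    have : p = IsLocalRing.maximalIdeal R := IsLocalRing.eq_maximalIdeal hmax
    apply h
    rw [this, hπ.maximalIdeal_eq]
    exact Ideal.mem_span_singleton_self π

/-- Chart data for a flat scheme over a DVR with reduced special fibre. -/
theorem chart_data {R : Type u} [CommRing R] [IsDomain R] [IsDiscreteValuationRing R]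
    {X : Scheme.{u}} (f : X ⟶ Spec (CommRingCat.of R)) [Flat f]
    (hred : AlgebraicGeometry.IsReduced (f.fiber (IsLocalRing.closedPoint R)))
    (π : R) (hπ : Irreducible π) (W : X.Opens) (hW : IsAffineOpen W) :
    ∃ ψ : CommRingCat.of R ⟶ Γ(X, W), Spec.map ψ = hW.fromSpec ≫ f ∧
      ψ.hom π ∈ nonZeroDivisors Γ(X, W) ∧
      ∀ a : Γ(X, W), a ^ 2 ∈ Ideal.span {ψ.hom π} → a ∈ Ideal.span {ψ.hom π} := by
  have hoW : IsOpenImmersion hW.fromSpec := hW.isOpenImmersion_fromSpec
  let ψ : CommRingCat.of R ⟶ Γ(X, W) := Spec.preimage (hW.fromSpec ≫ f)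
  have hψ : Spec.map ψ = hW.fromSpec ≫ f := Spec.map_preimage _
  refine ⟨ψ, hψ, ?_, ?_⟩
  · -- flatness
    have h1 : Flat (Spec.map ψ) := by rw [hψ]; infer_instance
    have h2 : ψ.hom.Flat := (HasRingHomProperty.Spec_iff (P := @Flat)).mp h1
    let _ : Algebra R Γ(X, W) := ψ.hom.toAlgebra
    have h3 : Module.Flat R Γ(X, W) := h2
    have h4 : IsSMulRegular Γ(X, W) π :=
      Module.Flat.isSMulRegular_of_nonZeroDivisors (mem_nonZeroDivisors_of_ne_zero hπ.ne_zero)
    rw [mem_nonZeroDivisors_iff_right]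
    intro b hb
    apply h4
    show π • b = π • 0
    rw [smul_zero, Algebra.smul_def, mul_comm]
    exact hb
  · let _ : Algebra R Γ(X, W) := ψ.hom.toAlgebra
    have hg : Spec.map ψ ≫ 𝟙 (Spec (CommRingCat.of R)) = hW.fromSpec ≫ f := by
      rw [Category.comp_id, hψ]
    have hr1 : AlgebraicGeometry.IsReduced
        (f.fiber ((𝟙 (Spec (CommRingCat.of R)) : _ ⟶ _) (IsLocalRing.closedPoint R))) := hred
    have hr2 : AlgebraicGeometry.IsReduced ((Spec.map ψ).fiber (IsLocalRing.closedPoint R)) :=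
      Groth.Agent.Lib.Helper6.RedFib.isReduced_fiber_chart f hW.fromSpec
        (𝟙 (Spec (CommRingCat.of R))) (Spec.map ψ) hg (IsLocalRing.closedPoint R)
    have hr3 : AlgebraicGeometry.IsReduced
        ((Spec.map (CommRingCat.ofHom (algebraMap R Γ(X, W)))).fiber
          (IsLocalRing.closedPoint R)) := hr2
    have hr4 : _root_.IsReduced ((IsLocalRing.closedPoint R).asIdeal.Fiber Γ(X, W)) :=
      Groth.Agent.Lib.Helper6.RedFib.isReduced_fiber_ring R Γ(X, W) (IsLocalRing.closedPoint R)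
    have hmap : (IsLocalRing.maximalIdeal R).map (algebraMap R Γ(X, W)) =
        Ideal.span {ψ.hom π} := by
      rw [hπ.maximalIdeal_eq, Ideal.map_span, Set.image_singleton]
      rfl
    intro a ha
    rw [← hmap] at ha ⊢
    have hr5 : _root_.IsReduced ((IsLocalRing.maximalIdeal R).Fiber Γ(X, W)) := hr4
    exact mem_map_of_pow_mem (IsLocalRing.maximalIdeal R) a 2 ha

/-- The generic fibre as a subset, in a chart. -/
theorem preimage_generic_chart {R : Type u} [CommRing R] [IsDomain R] [IsDiscreteValuationRing R]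
    (π : R) (hπ : Irreducible π) {B : CommRingCat.{u}} (ψ : CommRingCat.of R ⟶ B) :
    (Spec.map ψ) ⁻¹' {(⟨⊥, Ideal.isPrime_bot⟩ : PrimeSpectrum R)} =
      (PrimeSpectrum.basicOpen (ψ.hom π) : Set (PrimeSpectrum B)) := by
  ext q
  let q' : PrimeSpectrum B := q
  have hq'p : q'.asIdeal.IsPrime := q'.2
  have hp : (q'.asIdeal.comap ψ.hom).IsPrime := Ideal.comap_isPrime ψ.hom q'.asIdeal
  have h1 : (Spec.map ψ) q = (⟨q'.asIdeal.comap ψ.hom, hp⟩ : PrimeSpectrum R) := rfl
  show (Spec.map ψ) q = _ ↔ ψ.hom π ∉ q'.asIdeal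
  constructor
  · intro h
    have h2 : q'.asIdeal.comap ψ.hom = ⊥ :=
      congrArg PrimeSpectrum.asIdeal (h1.symm.trans h)
    exact (dvr_prime_eq_bot_iff π hπ _).mp h2
  · intro h
    have h2 : q'.asIdeal.comap ψ.hom = ⊥ := (dvr_prime_eq_bot_iff π hπ _).mpr h
    rw [h1]
    exact PrimeSpectrum.ext h2

/-- Key separation property. -/
theorem disjoint_closure_generic {R : Type u} [CommRing R] [IsDomain R]
    [IsDiscreteValuationRing R] {X : Scheme.{u}} (f : X ⟶ Spec (CommRingCat.of R)) [Flat f]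
    (hred : AlgebraicGeometry.IsReduced (f.fiber (IsLocalRing.closedPoint R)))
    (u v : Set X) (hu : IsOpen u) (hv : IsOpen v) (huv : Disjoint u v)
    (hcov : u ∪ v = f ⁻¹' {(⟨⊥, Ideal.isPrime_bot⟩ : PrimeSpectrum R)}) :
    Disjoint (closure u) (closure v) := by
  obtain ⟨π, hπ⟩ := IsDiscreteValuationRing.exists_irreducible R
  rw [Set.disjoint_left]
  intro x hxu hxv
  obtain ⟨_, ⟨W, hW, rfl⟩, hxW, -⟩ :=
    X.isBasis_affineOpens.exists_subset_of_mem_open (Set.mem_univ x) isOpen_univ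
  have hW' : IsAffineOpen W := hW
  obtain ⟨ψ, hψ, hnz, hrad⟩ := chart_data f hred π hπ W hW'
  have hoW : IsOpenImmersion hW'.fromSpec := hW'.isOpenImmersion_fromSpec
  let j := hW'.fromSpec
  have hjo : IsOpenMap j := j.isOpenEmbedding.isOpenMap
  have hjc : Continuous j := j.continuous
  let x' : PrimeSpectrum Γ(X, W) := hW'.primeIdealOf ⟨x, hxW⟩
  have hx' : j x' = x := hW'.fromSpec_primeIdealOf ⟨x, hxW⟩
  have hdis : Disjoint (j ⁻¹' u) (j ⁻¹' v) := huv.preimage j
  have hcov' : (j ⁻¹' u) ∪ (j ⁻¹' v) =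
      (PrimeSpectrum.basicOpen (ψ.hom π) : Set (PrimeSpectrum Γ(X, W))) := by
    rw [← Set.preimage_union, hcov, ← preimage_generic_chart π hπ ψ, hψ]
    rfl
  have key := disjoint_closure_of_cover_basicOpen (ψ.hom π) hnz hrad (j ⁻¹' u) (j ⁻¹' v)
    (hu.preimage hjc) (hv.preimage hjc) hdis hcov'
  have h1 : x' ∈ closure (j ⁻¹' u) := by
    rw [← hjo.preimage_closure_eq_closure_preimage hjc]
    show j x' ∈ closure u
    rw [hx']; exact hxu
  have h2 : x' ∈ closure (j ⁻¹' v) := by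
    rw [← hjo.preimage_closure_eq_closure_preimage hjc]
    show j x' ∈ closure v
    rw [hx']; exact hxv
  exact Set.disjoint_left.mp key h1 h2

end Groth.Agent.Lib.Helper6.DVRFib
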