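import Mathlib
import Groth.Agent.Lib.Helper6.DVRFib.Sch

/-!
# Schemes over a DVR with reduced special fibre and dense generic fibre (no flatness)
-/

set_option autoImplicit false
universe u

namespace Groth.Agent.Lib.Helper6.DVRFib

open AlgebraicGeometry CategoryTheory Limits

/-- Chart data for a scheme over a DVR with reduced special fibre (no flatness needed). -/
theorem chart_data' {R : Type u} [CommRing R] [IsDomain R] [IsDiscreteValuationRing R]
    {X : Scheme.{u}} (f : X ⟶ Spec (CommRingCat.of R))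
    (hred : AlgebraicGeometry.IsReduced (f.fiber (IsLocalRing.closedPoint R)))
    (π : R) (hπ : Irreducible π) (W : X.Opens) (hW : IsAffineOpen W) :
    ∃ ψ : CommRingCat.of R ⟶ Γ(X, W), Spec.map ψ = hW.fromSpec ≫ f ∧
      ∀ (a : Γ(X, W)) (n : ℕ), a ^ n ∈ Ideal.span {ψ.hom π} → a ∈ Ideal.span {ψ.hom π} := by
  have hoW : IsOpenImmersion hW.fromSpec := hW.isOpenImmersion_fromSpec
  let ψ : CommRingCat.of R ⟶ Γ(X, W) := Spec.preimage (hW.fromSpec ≫ f)
  have hψ : Spec.map ψ = hW.fromSpec ≫ f := Spec.map_preimage _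
  refine ⟨ψ, hψ, ?_⟩
  let _ : Algebra R Γ(X, W) := ψ.hom.toAlgebra
  have hg : Spec.map ψ ≫ 𝟙 (Spec (CommRingCat.of R)) = hW.fromSpec ≫ f := by
    rw [Category.comp_id, hψ]
  have hr1 : AlgebraicGeometry.IsReduced
      (f.fiber ((𝟙 (Spec (CommRingCat.of R)) : _ ⟶ _) (IsLocalRing.closedPoint R))) := hred
  have hr2 : AlgebraicGeometry.IsReduced ((Spec.map ψ).fiber (IsLocalRing.closedPoint R)) :=
    Groth.Agent.Lib.Helper6.RedFib.isReduced_fiber_chart f hW.fromSpec
      (𝟙 (Spec (CommRingCat.of R))) (Spec.map ψ) hg (IsLocalRing.closedPoint R)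
  have hr3 : AlgebraicGeometry.IsReduced
      ((Spec.map (CommRingCat.ofHom (algebraMap R Γ(X, W)))).fiber
        (IsLocalRing.closedPoint R)) := hr2
  have hr4 : _root_.IsReduced ((IsLocalRing.closedPoint R).asIdeal.Fiber Γ(X, W)) :=
    Groth.Agent.Lib.Helper6.RedFib.isReduced_fiber_ring R Γ(X, W) (IsLocalRing.closedPoint R)
  have hmap : (IsLocalRing.maximalIdeal R).map (algebraMap R Γ(X, W)) =
      Ideal.span {ψ.hom π} := by
    rw [hπ.maximalIdeal_eq, Ideal.map_span, Set.image_singleton]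
    rfl
  intro a n ha
  rw [← hmap] at ha ⊢
  have hr5 : _root_.IsReduced ((IsLocalRing.maximalIdeal R).Fiber Γ(X, W)) := hr4
  exact mem_map_of_pow_mem (IsLocalRing.maximalIdeal R) a n ha

/-- Key separation property, assuming only that the generic fibre is dense. -/
theorem disjoint_closure_generic' {R : Type u} [CommRing R] [IsDomain R]
    [IsDiscreteValuationRing R] {X : Scheme.{u}} (f : X ⟶ Spec (CommRingCat.of R))
    (hred : AlgebraicGeometry.IsReduced (f.fiber (IsLocalRing.closedPoint R)))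
    (hdense : Dense (f ⁻¹' {(⟨⊥, Ideal.isPrime_bot⟩ : PrimeSpectrum R)}))
    (u v : Set X) (hu : IsOpen u) (hv : IsOpen v) (huv : Disjoint u v)
    (hcov : u ∪ v = f ⁻¹' {(⟨⊥, Ideal.isPrime_bot⟩ : PrimeSpectrum R)}) :
    Disjoint (closure u) (closure v) := by
  obtain ⟨π, hπ⟩ := IsDiscreteValuationRing.exists_irreducible R
  rw [Set.disjoint_left]
  intro x hxu hxv
  obtain ⟨_, ⟨W, hW, rfl⟩, hxW, -⟩ :=
    X.isBasis_affineOpens.exists_subset_of_mem_open (Set.mem_univ x) isOpen_univ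
  have hW' : IsAffineOpen W := hW
  obtain ⟨ψ, hψ, hrad⟩ := chart_data' f hred π hπ W hW'
  have hoW : IsOpenImmersion hW'.fromSpec := hW'.isOpenImmersion_fromSpec
  let j := hW'.fromSpec
  have hjo : IsOpenMap j := j.isOpenEmbedding.isOpenMap
  have hjc : Continuous j := j.continuous
  let x' : PrimeSpectrum Γ(X, W) := hW'.primeIdealOf ⟨x, hxW⟩
  have hx' : j x' = x := hW'.fromSpec_primeIdealOf ⟨x, hxW⟩
  have hdis : Disjoint (j ⁻¹' u) (j ⁻¹' v) := huv.preimage j
  have hpre : j ⁻¹' (f ⁻¹' {(⟨⊥, Ideal.isPrime_bot⟩ : PrimeSpectrum R)}) =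
      (PrimeSpectrum.basicOpen (ψ.hom π) : Set (PrimeSpectrum Γ(X, W))) := by
    rw [← preimage_generic_chart π hπ ψ, hψ]
    rfl
  have hcov' : (j ⁻¹' u) ∪ (j ⁻¹' v) =
      (PrimeSpectrum.basicOpen (ψ.hom π) : Set (PrimeSpectrum Γ(X, W))) := by
    rw [← Set.preimage_union, hcov, hpre]
  have hd' : Dense (PrimeSpectrum.basicOpen (ψ.hom π) : Set (PrimeSpectrum Γ(X, W))) := by
    rw [← hpre]
    exact hdense.preimage hjo
  have hT : ∀ t : Γ(X, W), algebraMap Γ(X, W) (Localization.Away (ψ.hom π)) t = 0 →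
      IsNilpotent t := by
    intro t ht
    obtain ⟨⟨_, k, rfl⟩, hk⟩ :=
      (IsLocalization.map_eq_zero_iff (Submonoid.powers (ψ.hom π)) _ t).mp ht
    rw [nilpotent_iff_mem_prime]
    intro q hq
    have hsub : (PrimeSpectrum.basicOpen (ψ.hom π) : Set (PrimeSpectrum Γ(X, W))) ⊆
        PrimeSpectrum.zeroLocus {t} := by
      intro q' hq'
      rw [PrimeSpectrum.mem_zeroLocus, Set.singleton_subset_iff]
      have h1 : (ψ.hom π) ^ k * t ∈ q'.asIdeal := by
        have : (ψ.hom π) ^ k * t = 0 := hk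
        rw [this]; exact Ideal.zero_mem _
      rcases q'.2.mem_or_mem h1 with h2 | h2
      · exact absurd (q'.2.mem_of_pow_mem k h2) hq'
      · exact h2
    have hall : (PrimeSpectrum.zeroLocus {t} : Set (PrimeSpectrum Γ(X, W))) = Set.univ := by
      rw [← Set.univ_subset_iff, ← hd'.closure_eq]
      exact closure_minimal hsub (PrimeSpectrum.isClosed_zeroLocus _)
    have : (⟨q, hq⟩ : PrimeSpectrum Γ(X, W)) ∈ PrimeSpectrum.zeroLocus {t} := by
      rw [hall]; trivial
    rw [PrimeSpectrum.mem_zeroLocus, Set.singleton_subset_iff] at this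
    exact this
  have key := disjoint_closure_of_cover_basicOpen' (ψ.hom π) hT hrad (j ⁻¹' u) (j ⁻¹' v)
    (hu.preimage hjc) (hv.preimage hjc) hdis hcov'
  have h1 : x' ∈ closure (j ⁻¹' u) := by
    rw [← hjo.preimage_closure_eq_closure_preimage hjc]
    show j x' ∈ closure u
    rw [hx']; exact hxu
  have h2 : x' ∈ closure (j ⁻¹' v) := by
    rw [← hjo.preimage_closure_eq_closure_preimage hjc]
    show j x' ∈ closure v
    rw [hx']; exact hxv
  exact Set.disjoint_left.mp key h1 h2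

end Groth.Agent.Lib.Helper6.DVRFib
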