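import Mathlib

/-!
# Reducedness near the special fibre (ring level)
-/

set_option autoImplicit false
universe u

namespace Groth.Agent.Lib.Helper6.DVRFib

/-- If `B` is Noetherian, `ϖ` is a nonzerodivisor and `ϖ B` is radical, then some `r ≡ 1 mod ϖ`
kills all nilpotents. -/
theorem exists_kill_nilpotents {B : Type u} [CommRing B] [IsNoetherianRing B] (ϖ : B)
    (hnz : ϖ ∈ nonZeroDivisors B)
    (hrad : ∀ (a : B) (n : ℕ), a ^ n ∈ Ideal.span {ϖ} → a ∈ Ideal.span {ϖ}) :
    ∃ r : B, r - 1 ∈ Ideal.span {ϖ} ∧ ∀ t : B, IsNilpotent t → r * t = 0 := by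
  let N : Ideal B := nilradical B
  have hfg : (N : Submodule B B).FG := IsNoetherian.noetherian N
  have hle : (N : Submodule B B) ≤ Ideal.span {ϖ} • (N : Submodule B B) := by
    intro t ht
    have ht' : IsNilpotent t := ht
    obtain ⟨k, hk⟩ := ht'
    have h1 : t ∈ Ideal.span {ϖ} := hrad t k (by rw [hk]; exact Ideal.zero_mem _)
    obtain ⟨t₁, rfl⟩ := Ideal.mem_span_singleton'.mp h1
    have h2 : t₁ ^ k = 0 := by
      have h3 : t₁ ^ k * ϖ ^ k = 0 := by rw [← mul_pow]; exact hk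
      exact (mul_right_mem_nonZeroDivisors_eq_zero_iff (pow_mem hnz k)).mp h3
    have h4 : t₁ ∈ N := ⟨k, h2⟩
    rw [mul_comm]
    exact Submodule.smul_mem_smul (Ideal.mem_span_singleton_self ϖ) h4
  obtain ⟨r, hr1, hr2⟩ :=
    Submodule.exists_sub_one_mem_and_smul_eq_zero_of_fg_of_le_smul (Ideal.span {ϖ})
      (N : Submodule B B) hfg hle
  exact ⟨r, hr1, fun t ht => hr2 t ht⟩

/-- If `r` kills all nilpotents of `B` and `r ∉ q`, then the localization `B_q` is reduced. -/
theorem isReduced_of_kill_nilpotents {B : Type u} [CommRing B] (r : B)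
    (hr : ∀ t : B, IsNilpotent t → r * t = 0) (q : Ideal B) [q.IsPrime] (hrq : r ∉ q)
    (S : Type*) [CommRing S] [Algebra B S] [IsLocalization.AtPrime S q] : IsReduced S := by
  constructor
  rintro x ⟨k, hk⟩
  obtain ⟨b, s, rfl⟩ := IsLocalization.exists_mk'_eq q.primeCompl x
  rw [← IsLocalization.mk'_pow, IsLocalization.mk'_eq_zero_iff] at hk
  obtain ⟨c, hc⟩ := hk
  have h1 : IsNilpotent ((c : B) * b) := by
    refine ⟨k + 1, ?_⟩
    have : ((c : B) * b) ^ (k + 1) = (c : B) ^ k * b * ((c : B) * b ^ k) := by ring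
    rw [this, hc, mul_zero]
  have h2 := hr _ h1
  rw [IsLocalization.mk'_eq_zero_iff]
  refine ⟨⟨r * c, ?_⟩, ?_⟩
  · exact q.primeCompl.mul_mem hrq c.2
  · show r * c * b = 0
    rw [mul_assoc]; exact h2

end Groth.Agent.Lib.Helper6.DVRFib
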