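import Mathlib
import Groth.Agent.Lib.Helper6.DVRFib.SchOpen
import Groth.Agent.Lib.Helper6.DVRFib.Reduced
import Groth.Agent.Lib.Helper6.DVRFib.Generic

/-!
# Proper flat schemes over a DVR with reduced special fibre are reduced
-/

set_option autoImplicit false
universe u

namespace Groth.Agent.Lib.Helper6.DVRFib

open AlgebraicGeometry CategoryTheory Limits

theorem isReduced_stalk_of_proper {R : Type u} [CommRing R] [IsDomain R]
    [IsDiscreteValuationRing R] {X : Scheme.{u}} (f : X ⟶ Spec (CommRingCat.of R))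
    [IsProper f] [Flat f]
    (hred : AlgebraicGeometry.IsReduced (f.fiber (IsLocalRing.closedPoint R))) (x : X) :
    _root_.IsReduced (X.presheaf.stalk x) := by
  obtain ⟨π, hπ⟩ := IsDiscreteValuationRing.exists_irreducible R
  -- a specialization of `x` in the special fibre
  obtain ⟨x₀, hx₀, hfx₀⟩ : ∃ x₀ : X, x ⤳ x₀ ∧ f x₀ = IsLocalRing.closedPoint R := by
    have hcl : IsClosed (f '' closure {x}) := f.isClosedMap _ isClosed_closure
    have h1 : closure {f x} ⊆ f '' closure {x} :=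
      closure_minimal (Set.singleton_subset_iff.mpr ⟨x, subset_closure rfl, rfl⟩) hcl
    have h2 : IsLocalRing.closedPoint R ∈ closure {f x} :=
      specializes_iff_mem_closure.mp (IsLocalRing.specializes_closedPoint (R := R) (f x))
    obtain ⟨x₀, hx₀, hfx₀⟩ := h1 h2
    exact ⟨x₀, specializes_iff_mem_closure.mpr hx₀, hfx₀⟩
  obtain ⟨_, ⟨W, hW, rfl⟩, hx₀W, -⟩ :=
    X.isBasis_affineOpens.exists_subset_of_mem_open (Set.mem_univ x₀) isOpen_univ
  have hW' : IsAffineOpen W := hW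
  have hxW : x ∈ W := hx₀.mem_open W.2 hx₀W
  obtain ⟨ψ, hψ, hnz, -⟩ := chart_data f hred π hπ W hW'
  obtain ⟨ψ', hψ', hrad⟩ := chart_data' f hred π hπ W hW'
  have hψψ' : ψ = ψ' := Spec.map_injective (hψ.trans hψ'.symm)
  subst hψψ'
  have hX : IsLocallyNoetherian X := LocallyOfFiniteType.isLocallyNoetherian f
  have hN : IsNoetherianRing Γ(X, W) := IsLocallyNoetherian.component_noetherian ⟨W, hW'⟩
  obtain ⟨r, hr1, hr2⟩ := exists_kill_nilpotents (ψ.hom π) hnz hrad
  have hoW : IsOpenImmersion hW'.fromSpec := hW'.isOpenImmersion_fromSpec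
  let q₀ : PrimeSpectrum Γ(X, W) := hW'.primeIdealOf ⟨x₀, hx₀W⟩
  let q : PrimeSpectrum Γ(X, W) := hW'.primeIdealOf ⟨x, hxW⟩
  have hq₀ : hW'.fromSpec q₀ = x₀ := hW'.fromSpec_primeIdealOf ⟨x₀, hx₀W⟩
  have hq : hW'.fromSpec q = x := hW'.fromSpec_primeIdealOf ⟨x, hxW⟩
  -- `ψ π ∈ q₀`
  have hπq₀ : ψ.hom π ∈ q₀.asIdeal := by
    have h1 : (Spec.map ψ) q₀ = IsLocalRing.closedPoint R := by
      rw [hψ]
      show f (hW'.fromSpec q₀) = _
      rw [hq₀, hfx₀]
    have h2 : q₀.asIdeal.comap ψ.hom = IsLocalRing.maximalIdeal R :=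
      congrArg PrimeSpectrum.asIdeal h1
    have h3 : π ∈ q₀.asIdeal.comap ψ.hom := by
      rw [h2, hπ.maximalIdeal_eq]; exact Ideal.mem_span_singleton_self π
    exact h3
  have hrq₀ : r ∉ q₀.asIdeal := by
    intro hr
    have h1 : r - 1 ∈ q₀.asIdeal :=
      (Ideal.span_singleton_le_iff_mem _).mpr hπq₀ hr1
    have : (1 : Γ(X, W)) ∈ q₀.asIdeal := by
      have := q₀.asIdeal.sub_mem hr h1
      simpa using this
    exact q₀.2.ne_top ((Ideal.eq_top_iff_one _).mpr this)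
  have hqq₀ : q.asIdeal ≤ q₀.asIdeal := by
    have h1 : hW'.fromSpec q ⤳ hW'.fromSpec q₀ := by rw [hq, hq₀]; exact hx₀
    have h2 : q ⤳ q₀ :=
      (hW'.fromSpec.isOpenEmbedding.isInducing.specializes_iff).mp h1
    exact (PrimeSpectrum.le_iff_specializes q q₀).mpr h2
  have hrq : r ∉ q.asIdeal := fun h => hrq₀ (hqq₀ h)
  let _ := X.presheaf.algebra_section_stalk ⟨x, hxW⟩
  have hloc := hW'.isLocalization_stalk ⟨x, hxW⟩
  exact isReduced_of_kill_nilpotents r hr2 q.asIdeal hrq (X.presheaf.stalk x)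

end Groth.Agent.Lib.Helper6.DVRFib
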